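import Groth.Agent.S11768
import Groth.Agent.ProjSerreLib.SubExt
import Groth.Agent.ExtShLib.Affine
import Groth.Agent.BCLib.TensorQCoh
import Groth.Agent.DCohLib.PerfCoh
import Groth.Agent.PullbackMod.LocFree
import Groth.Agent.AmpleVanLib.Descend
import Groth.Agent.BlowCompLib.Compose
import Groth.Agent.EtAlgEasy.PrinPartSym
import Groth.Agent.OmegaAffLib.Ideal
import Mathlib.RingTheory.Noetherian.OfPrime

/-!
# Lifting finite locally free modules along nilpotent thickenings
-/

set_option autoImplicit false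
set_option backward.isDefEq.respectTransparency false
set_option linter.style.haveILetI false
set_option maxHeartbeats 1000000

universe u

open CategoryTheory CategoryTheory.Limits AlgebraicGeometry TopologicalSpace Opposite

noncomputable section

namespace Groth.Agent.NilpLiftLib

theorem isNoetherianRing_of_span_singleton {R : Type u} [CommRing R] (z : R) (hz : IsNilpotent z)
    {S : Type u} [CommRing S] [IsNoetherianRing S] (f : R →+* S) (hf : Function.Surjective f)
    (hk : RingHom.ker f = Ideal.span {z}) : IsNoetherianRing R := by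
  classical
  refine IsNoetherianRing.of_prime fun p hp => ?_
  obtain ⟨n, hn⟩ := hz
  have hzp : RingHom.ker f ≤ p := by
    rw [hk, Ideal.span_le, Set.singleton_subset_iff]
    exact hp.mem_of_pow_mem n (hn ▸ p.zero_mem)
  obtain ⟨s, hs⟩ := IsNoetherian.noetherian (p.map f)
  choose g hg using hf
  refine ⟨insert z (s.image g), le_antisymm ?_ fun x hx => ?_⟩
  · refine Ideal.span_le.2 fun y hy => ?_
    rcases Finset.mem_insert.1 hy with rfl | hy
    · exact hzp (hk ▸ Ideal.mem_span_singleton_self _)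
    · obtain ⟨t, ht, rfl⟩ := Finset.mem_image.1 hy
      have h1 : t ∈ p.map f := hs ▸ Ideal.subset_span ht
      obtain ⟨w, hw, hwt⟩ := (Ideal.mem_map_iff_of_surjective f (fun b => ⟨g b, hg b⟩)).1 h1
      have h2 : g t - w ∈ p := hzp (by rw [RingHom.mem_ker, map_sub, hg, hwt, sub_self])
      simpa using p.add_mem h2 hw
  · have h1 : f x ∈ Ideal.span (s : Set S) := by
      show f x ∈ Submodule.span S (s : Set S)
      rw [hs]
      exact Ideal.mem_map_of_mem f hx
    have h2 : (Ideal.span ((s.image g : Finset R) : Set R)).map f = Ideal.span (s : Set S) := by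
      rw [Ideal.map_span, Finset.coe_image, ← Set.image_comp, show (f ∘ g : S → S) = id from funext hg, Set.image_id]
    rw [← h2] at h1
    obtain ⟨y, hy, hyx⟩ := (Ideal.mem_map_iff_of_surjective f (fun b => ⟨g b, hg b⟩)).1 h1
    have h3 : x - y ∈ Ideal.span {z} := by rw [← hk, RingHom.mem_ker, map_sub, hyx, sub_self]
    rw [← sub_add_cancel x y]
    refine add_mem (Ideal.span_mono ?_ h3) (Ideal.span_mono ?_ hy)
    · simp
    · intro a ha
      exact Finset.mem_insert_of_mem ha

theorem isLocallyNoetherian_of_principal {C X : Scheme.{u}} (i : C ⟶ X) [IsClosedImmersion i] [IsLocallyNoetherian C]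
    {n : ℕ} (hn : i.ker ^ n = ⊥)
    (hp : ∀ x : X, ∃ U : X.affineOpens, x ∈ (U : X.Opens) ∧ ∃ z : Γ(X, U), i.ker.ideal U = Ideal.span {z}) :
    IsLocallyNoetherian X := by
  choose U hxU z hz using hp
  refine (isLocallyNoetherian_iff_of_iSup_eq_top (S := U) ?_).2 fun x => ?_
  · exact eq_top_iff.2 fun x _ => Opens.mem_iSup.2 ⟨x, hxU x⟩
  · haveI : IsNoetherianRing Γ(C, i ⁻¹ᵁ (U x).1) :=
      IsLocallyNoetherian.component_noetherian ⟨_, (U x).2.preimage i⟩
    have h1 : (i.ker.ideal (U x)) ^ n = ⊥ := by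
      have := congr($(hn).ideal (U x))
      rwa [Scheme.IdealSheafData.ideal_pow, Scheme.IdealSheafData.ideal_bot, Pi.pow_apply, Pi.bot_apply] at this
    refine isNoetherianRing_of_span_singleton (z x) ⟨n, ?_⟩ (i.app (U x).1).hom
      (i.app_surjective _ (U x).2) (by rw [← Scheme.Hom.ker_apply, hz])
    have h2 := Ideal.pow_mem_pow (show z x ∈ i.ker.ideal (U x) from hz x ▸ Ideal.mem_span_singleton_self _) n
    rwa [h1, Ideal.mem_bot] at h2

theorem topologicalKrullDim_eq {C X : Scheme.{u}} (i : C ⟶ X) [IsClosedImmersion i] {n : ℕ} (hn : i.ker ^ n = ⊥) :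
    topologicalKrullDim X = topologicalKrullDim C := by
  have hs : Function.Surjective i := fun x => by
    have h1 : (i.ker.support : Set X) = Set.univ := by
      rcases Nat.eq_zero_or_pos n with h0 | h0
      · subst h0
        rw [pow_zero, Scheme.IdealSheafData.one_eq_top] at hn
        have hk : i.ker = ⊥ := le_bot_iff.1 (le_top.trans hn.le)
        rw [hk, Scheme.IdealSheafData.support_bot]
        rfl
      · rw [← Scheme.IdealSheafData.support_pow i.ker n h0.ne', hn, Scheme.IdealSheafData.support_bot]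
        rfl
    rw [Scheme.Hom.support_ker, i.isClosedEmbedding.isClosed_range.closure_eq] at h1
    exact h1.symm.le (Set.mem_univ x)
  exact (IsHomeomorph.topologicalKrullDim_eq _
    (isHomeomorph_iff_isEmbedding_surjective.2 ⟨i.isClosedEmbedding.isEmbedding, hs⟩)).symm

theorem comap_subschemeι_self {P : Scheme.{u}} (J : P.IdealSheafData) : J.comap J.subschemeι = ⊥ := by
  rw [← Scheme.isIso_subschemeι_iff_eq_bot]
  haveI : IsIso (pullback.fst J.subschemeι J.subschemeι) := inferInstance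
  rw [← Scheme.IdealSheafData.comapIso_hom_fst]
  infer_instance

theorem idealPow_le {P : Scheme.{u}} {a b : ℕ} (h : a ≤ b) (J : P.IdealSheafData) : J ^ b ≤ J ^ a := fun U => by
  rw [Scheme.IdealSheafData.ideal_pow, Scheme.IdealSheafData.ideal_pow]
  exact Ideal.pow_le_pow_right h

variable {P : Scheme.{u}} [P.IsSeparated] [IsNoetherian P]
  (H : ∀ {Y : Scheme.{u}} (κ : Y ⟶ P) [IsClosedImmersion κ] (M : Y.Modules) [Coh.IsQCoh M],
    Subsingleton (Coh.HH Y M 2))

include H in
theorem exists_lift_square {Z : Scheme.{u}} (κ : Z ⟶ P) [IsClosedImmersion κ] (K : Z.IdealSheafData) (hK : K ^ 2 = ⊥)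
    (E₀ : K.subscheme.Modules) (hE₀ : FlatMod.IsFinLocFree E₀) :
    ∃ F : Z.Modules, FlatMod.IsFinLocFree F ∧ Nonempty ((Scheme.Modules.pullback K.subschemeι).obj F ≅ E₀) := by
  haveI : Z.IsSeparated := ⟨by rw [← terminal.comp_from κ]; infer_instance⟩
  haveI : IsLocallyNoetherian K.subscheme := LocallyOfFiniteType.isLocallyNoetherian (K.subschemeι ≫ κ)
  haveI : EnoughInjectives K.subscheme.Modules := Groth.Agent.SiteBase.enoughInjectives_sheafOfModules _
  haveI : HasExt.{u} K.subscheme.Modules := hasExt_of_enoughInjectives _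
  haveI : ModSite.HasSheafHom (O := K.subscheme.sheaf) E₀ := ModTensor.hasSheafHom (O := K.subscheme.sheaf) _
  haveI : Coh.IsQCoh (ClSub.idealMod K) := OmegaAffLib.isQCoh_idealMod K
  haveI : Coh.IsQCoh E₀ := (DCohLib.isCoh_of_isFinLocFree hE₀).1
  haveI : Coh.IsQCoh ((Scheme.Modules.pullback K.subschemeι).obj (ClSub.idealMod K)) :=
    PullbackMod.isQCoh_pullback _ _
  haveI := BCLib.isQCoh_tensorMod ((Scheme.Modules.pullback K.subschemeι).obj (ClSub.idealMod K)) E₀
  haveI := StalkHomLib.isQCoh_hF' E₀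
    (CohB1.tensorMod ((Scheme.Modules.pullback K.subschemeι).obj (ClSub.idealMod K)) E₀) (DCohLib.isCoh_of_isFinLocFree hE₀)
  exact S11768.result Z K hK E₀ hE₀ (ProjSerreLib.subsingleton_ext_flf_gen hE₀ (H (K.subschemeι ≫ κ) _))

include H in
theorem exists_lift_step (J : P.IdealSheafData) (m : ℕ) (E : (J ^ (m + 1)).subscheme.Modules) (hE : FlatMod.IsFinLocFree E) :
    ∃ (t : (J ^ (m + 1)).subscheme ⟶ (J ^ (m + 2)).subscheme) (F : (J ^ (m + 2)).subscheme.Modules),
      t ≫ (J ^ (m + 2)).subschemeι = (J ^ (m + 1)).subschemeι ∧ FlatMod.IsFinLocFree F ∧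
        Nonempty ((Scheme.Modules.pullback t).obj F ≅ E) := by
  set a := (J ^ (m + 1)).subschemeι
  set b := (J ^ (m + 2)).subschemeι
  have hle : J ^ (m + 2) ≤ J ^ (m + 1) := idealPow_le (Nat.le_succ _) J
  let inc := Scheme.IdealSheafData.inclusion hle
  have hinc : inc ≫ b = a := Scheme.IdealSheafData.inclusion_subschemeι hle
  let K := (J ^ (m + 1)).comap b
  have hK : K ^ 2 = ⊥ := by
    refine le_bot_iff.1 ?_
    show ((J ^ (m + 1)).comap b) ^ (1 + 1) ≤ _
    rw [← EtAlgEasy.PrinPartSym.comap_pow, ← pow_mul]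
    refine le_trans (Scheme.IdealSheafData.comap_mono b (idealPow_le (by omega) J :
      J ^ ((m + 1) * (1 + 1)) ≤ J ^ (m + 2))) ?_
    exact (comap_subschemeι_self (J ^ (m + 2))).le
  have hp : IsPullback inc (𝟙 _) b a :=
    IsPullback.of_isLimit (PullbackCone.isLimitAux' (PullbackCone.mk inc (𝟙 _) (by rw [hinc, Category.id_comp]))
      fun s => ⟨s.snd, by
        rw [← cancel_mono b, Category.assoc]
        show s.snd ≫ inc ≫ b = s.fst ≫ b
        rw [hinc, s.condition], Category.comp_id _, fun {l} _ h => (Category.comp_id l).symm.trans h⟩)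
  let e : K.subscheme ≅ (J ^ (m + 1)).subscheme := (J ^ (m + 1)).comapIso b ≪≫ hp.isoPullback.symm
  have he : e.inv ≫ K.subschemeι = inc := by
    show (hp.isoPullback.hom ≫ ((J ^ (m + 1)).comapIso b).inv) ≫ K.subschemeι = inc
    rw [Category.assoc, Scheme.IdealSheafData.comapIso_inv_subschemeι, IsPullback.isoPullback_hom_fst]
  obtain ⟨F, hF, ⟨φ⟩⟩ := exists_lift_square H b K hK ((Scheme.Modules.pullback e.hom).obj E)
    (PullbackMod.isFinLocFree_pullback _ _ hE)
  refine ⟨inc, F, hinc, hF, ⟨?_⟩⟩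
  exact (Scheme.Modules.pullbackCongr he.symm).app F ≪≫ ((Scheme.Modules.pullbackComp e.inv K.subschemeι).app F).symm ≪≫
    (Scheme.Modules.pullback e.inv).mapIso φ ≪≫ (Scheme.Modules.pullbackComp e.inv e.hom).app E ≪≫
    (Scheme.Modules.pullbackCongr e.inv_hom_id).app E ≪≫ (Scheme.Modules.pullbackId _).app E

include H in
theorem exists_lift (J : P.IdealSheafData) (n : ℕ) (hn : J ^ (n + 1) = ⊥) (E : J.subscheme.Modules)
    (hE : FlatMod.IsFinLocFree E) :
    ∃ E' : P.Modules, FlatMod.IsFinLocFree E' ∧ Nonempty ((Scheme.Modules.pullback J.subschemeι).obj E' ≅ E) := by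
  suffices h : ∀ m : ℕ, ∃ (t : J.subscheme ⟶ (J ^ (m + 1)).subscheme) (F : (J ^ (m + 1)).subscheme.Modules),
      t ≫ (J ^ (m + 1)).subschemeι = J.subschemeι ∧ FlatMod.IsFinLocFree F ∧
        Nonempty ((Scheme.Modules.pullback t).obj F ≅ E) by
    obtain ⟨t, F, ht, hF, ⟨φ⟩⟩ := h n
    haveI : IsIso (J ^ (n + 1)).subschemeι := (Scheme.isIso_subschemeι_iff_eq_bot _).2 hn
    refine ⟨(Scheme.Modules.pullback (inv (J ^ (n + 1)).subschemeι)).obj F, PullbackMod.isFinLocFree_pullback _ _ hF, ⟨?_⟩⟩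
    exact (Scheme.Modules.pullbackComp J.subschemeι (inv (J ^ (n + 1)).subschemeι)).app F ≪≫
      (Scheme.Modules.pullbackCongr (by rw [IsIso.comp_inv_eq, ht])).app F ≪≫ φ
  intro m
  induction m with
  | zero =>
    have key : ∀ J' : P.IdealSheafData, J' = J → ∃ (t : J.subscheme ⟶ J'.subscheme) (F : J'.subscheme.Modules),
        t ≫ J'.subschemeι = J.subschemeι ∧ FlatMod.IsFinLocFree F ∧
          Nonempty ((Scheme.Modules.pullback t).obj F ≅ E) := by
      rintro _ rfl
      exact ⟨𝟙 _, E, Category.id_comp _, hE, ⟨(Scheme.Modules.pullbackId _).app E⟩⟩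
    exact key _ (by rw [zero_add, pow_one])
  | succ m ih =>
    obtain ⟨t, F, ht, hF, ⟨φ⟩⟩ := ih
    obtain ⟨t', F', ht', hF', ⟨ψ⟩⟩ := exists_lift_step H J m F hF
    exact ⟨t ≫ t', F', by rw [Category.assoc]; exact (congrArg (t ≫ ·) ht').trans ht, hF',
      ⟨((Scheme.Modules.pullbackComp t t').app F').symm ≪≫ (Scheme.Modules.pullback t).mapIso ψ ≪≫ φ⟩⟩

end Groth.Agent.NilpLiftLib
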